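import Cfsg.Agent.Lib.RootInv.Movers

/-! Members with the same odd partners commute with the same members. -/

set_option autoImplicit false

namespace Cfsg.Agent.Lib.RootInv

open Cfsg.Agent.Lib.Elem70
open scoped commutatorElement

variable {G : Type*} [Group G] [Finite G] {D : Set G}

variable (hD : Cfsg.IsRootInvolutionSet D) (hc : Cfsg.IsConnectedSet (Cfsg.OddAdj D) D)
include hD hc

/-- Members with the same odd partners commute with each other. -/
theorem comm_of_same {a f : G} (ha : a ∈ D) (hf : f ∈ D)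
    (h : Cfsg.oddPartners D f = Cfsg.oddPartners D a) : a * f = f * a := by
  classical
  rcases cases_odd hD ha hf with hcm | ho | ⟨h4, hb⟩
  · exact hcm
  · exact absurd (h.symm ▸ ho) (not_self_odd hD)
  exfalso
  -- the class of `a`
  set T : Set G := {t | t ∈ D ∧ Cfsg.oddPartners D t = Cfsg.oddPartners D a} with hT
  set Q := Subgroup.closure T with hQ
  let N : Subgroup G :=
    { carrier := {g | (fun e => g * e * g⁻¹) '' Cfsg.oddPartners D a = Cfsg.oddPartners D a}
      one_mem' := by simp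
      mul_mem' := by
        intro g g' hg hg'
        show _ = Cfsg.oddPartners D a
        conv_rhs => rw [← hg, ← hg', Set.image_image]
        simp [mul_assoc]
      inv_mem' := by
        intro g hg
        show _ = Cfsg.oddPartners D a
        conv_lhs => rw [← hg, Set.image_image]
        simp [mul_assoc] }
  have hTN : Q ≤ N := (Subgroup.closure_le _).mpr fun t ht => by
    show (fun e => t * e * t⁻¹) '' Cfsg.oddPartners D a = Cfsg.oddPartners D a
    rw [← ht.2, ← oddPartners_conj hD, mul_inv_cancel_right]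
  let D' : Set ↥Q := {t | (t : G) ∈ T}
  have hTQ : T ⊆ Q := Subgroup.subset_closure
  have htwo : ∀ s ∈ T, ∀ t ∈ T, s * t = t * s ∨ (orderOf (s * t) = 4 ∧ (s * t) ^ 2 ∈ T) := by
    intro s hs t ht
    rcases cases_odd hD hs.1 ht.1 with h' | h' | ⟨h', hm⟩
    · exact Or.inl h'
    · exact absurd (show t ∈ Cfsg.oddPartners D t by rw [ht.2, ← hs.2]; exact h') (not_self_odd hD)
    · refine Or.inr ⟨h', hm, ?_⟩
      have hconj : t * s * t ∈ T := by
        refine ⟨conj_mem' hD hs.1 ht.1, ?_⟩
        conv_lhs => rw [show t * s * t = t * s * t⁻¹ by rw [RootInvolutions.inv_self hD ht.1],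
          oddPartners_conj hD, hs.2]
        exact hTN (hTQ ht)
      have hline := RootInvolutions.sq_mem_productPartners hD hs.1 ht.1 h' hm
      have hp : t * s * t ∈ Cfsg.productPartners D s := by
        have e := four_conj hD hs.1 ht.1
        refine ⟨⟨hconj.1, ?_, ?_⟩, ?_⟩
        · rw [e, mul_assoc, hline.1.2.1, ← mul_assoc]
        · rw [e]
          intro e'
          exact RootInvolutions.ne_one hD hm (mul_left_cancel (e'.trans (mul_one s).symm))
        · rw [e, mul_assoc, hline.1.2.1, ← mul_assoc, RootInvolutions.mul_self hD hs.1, one_mul]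
          exact hm
      have h3 := oddPartners_third hD hc hs.1 hp (hs.2.trans hconj.2.symm)
      rw [four_conj hD hs.1 ht.1, mul_assoc, hline.1.2.1, ← mul_assoc,
        RootInvolutions.mul_self hD hs.1, one_mul] at h3
      exact h3.trans hs.2
  have hD' : Cfsg.IsRootInvolutionSet D' := by
    refine ⟨fun d hd => by rw [← Subgroup.orderOf_coe]; exact hD.orderOf_eq _ hd.1, ?_, ?_, ?_⟩
    · exact Subgroup.closure_closure_coe_preimage
    · intro d hd g
      refine ⟨hD.conj_mem _ hd.1 _, ?_⟩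
      show Cfsg.oddPartners D ((g : G) * (d : G) * (g : G)⁻¹) = _
      rw [oddPartners_conj hD, hd.2]
      exact hTN g.2
    · intro s hs t ht
      rcases htwo _ hs _ ht with h' | ⟨h', hm⟩
      · exact Or.inl (Subtype.ext h')
      · exact Or.inr (Or.inr ⟨by rw [← Subgroup.orderOf_coe]; exact h', hm⟩)
  have hiso : ∀ d ∈ D', Cfsg.IsIsolatedElem (Cfsg.OddAdj D') D' d := by
    intro d hd
    rw [RootInvolutions.isolated_iff hD']
    refine ⟨hd, fun e ⟨_, he, hne, ho⟩ => ?_⟩
    apply not_self_odd hD (a := (e : G))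
    rw [he.2, ← hd.2]
    exact ⟨he.1, fun e' => hne (Subtype.ext e'.symm), by
      rwa [← Subgroup.orderOf_coe] at ho⟩
  have htop : Cfsg.pCore 2 ↥Q = ⊤ := top_le_iff.mp (hD'.generates.ge.trans
    ((Subgroup.closure_le _).mpr fun d hd => RootInvolutions.isolated_mem_pCore hD' (hiso d hd)))
  haveI : Fact (Nat.Prime 2) := ⟨Nat.prime_two⟩
  have hQ2 : IsPGroup 2 ↥Q := by
    have := (Cfsg.Agent.Lib.PSolvable.isPGroup_pCore (p := 2) (G := ↥Q))
    rw [htop] at this
    exact this.of_equiv Subgroup.topEquiv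
  haveI := hQ2.isNilpotent
  obtain ⟨n, hn⟩ := (Subgroup.nilpotent_iff_lowerCentralSeries (G := ↥Q)).mp hQ2.isNilpotent
  -- some member is central
  obtain ⟨t0, ht0, hcen⟩ : ∃ t0 ∈ T, ∀ t ∈ T, t * t0 = t0 * t := by
    by_contra hno
    push Not at hno
    have key : ∀ i, ∃ d ∈ D', d ∈ Subgroup.lowerCentralSeries (⊤ : Subgroup ↥Q) i := by
      intro i
      induction i with
      | zero => exact ⟨⟨a, hTQ ⟨ha, rfl⟩⟩, ⟨ha, rfl⟩, by simp⟩
      | succ i ih =>
        obtain ⟨d, hd, hdi⟩ := ih
        obtain ⟨t, ht, hne⟩ := hno _ hd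
        rcases htwo _ hd _ ht with h' | ⟨h', hm⟩
        · exact absurd h'.symm hne
        refine ⟨⟨((d : G) * t) ^ 2, hTQ hm⟩, hm, ?_⟩
        have he : (⟨((d : G) * t) ^ 2, hTQ hm⟩ : ↥Q) = ⁅d, (⟨t, hTQ ht⟩ : ↥Q)⁆ := by
          apply Subtype.ext
          show ((d : G) * t) ^ 2 = (d : G) * t * (d : G)⁻¹ * t⁻¹
          rw [RootInvolutions.inv_self hD hd.1, RootInvolutions.inv_self hD ht.1, sq]
          simp only [mul_assoc]
        rw [he, Subgroup.lowerCentralSeries_succ]
        exact Subgroup.commutator_mem_commutator hdi (Subgroup.mem_top _)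
    obtain ⟨d, hd, hdi⟩ := key n
    rw [hn, Subgroup.mem_bot] at hdi
    exact RootInvolutions.ne_one hD hd.1 (congrArg Subtype.val hdi)
  obtain ⟨p, hp⟩ := exists_oddPartner hD hc ha hf fun e => not_comm_of_four hD ha hf h4 (by rw [e])
  obtain ⟨g, -, hg⟩ := exists_conj_of_odd hD ha hp
  obtain ⟨g', -, hg'⟩ := exists_conj_of_odd hD ht0.1 (ht0.2.symm ▸ hp)
  set k := g⁻¹ * g' with hk
  have hkt : k * t0 * k⁻¹ = a := by
    rw [hk, show g⁻¹ * g' * t0 * (g⁻¹ * g')⁻¹ = g⁻¹ * (g' * t0 * g'⁻¹) * g by group, ← hg', hg]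
    group
  have hkf : k⁻¹ * f * k ∈ T := by
    refine ⟨by simpa using hD.conj_mem f hf k⁻¹, ?_⟩
    rw [show k⁻¹ * f * k = k⁻¹ * f * k⁻¹⁻¹ by group, oddPartners_conj hD, h, ← oddPartners_conj hD,
      ← hkt, show k⁻¹ * (k * t0 * k⁻¹) * k⁻¹⁻¹ = t0 by group]
    rw [hkt]; exact ht0.2
  apply not_comm_of_four hD ha hf h4
  have := hcen _ hkf
  rw [← hkt]
  calc k * t0 * k⁻¹ * f = k * (t0 * (k⁻¹ * f * k)) * k⁻¹ := by group
    _ = k * (k⁻¹ * f * k * t0) * k⁻¹ := by rw [this]
    _ = f * (k * t0 * k⁻¹) := by group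

/-- A product partner with the same odd partners commutes with the same members. -/
theorem comm_iff_of_line {a b : G} (ha : a ∈ D) (hb : b ∈ Cfsg.productPartners D a)
    (h : Cfsg.oddPartners D b = Cfsg.oddPartners D a) {z : G} (hz : z ∈ D)
    (hzb : z * b = b * z) : z * a = a * z := by
  rcases cases_odd hD ha hz with hcm | ho | ⟨h4, hg⟩
  · exact hcm.symm
  · exact absurd hzb.symm (not_comm_of_odd hD hb.1.1 (h.symm ▸ ho))
  exfalso
  set g := (a * z) ^ 2 with hg'
  have hline := RootInvolutions.sq_mem_productPartners hD ha hz h4 hg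
  have hconj : Cfsg.oddPartners D (z * a * z) = Cfsg.oddPartners D a := by
    have e : z * a * z = z * a * z⁻¹ := by rw [RootInvolutions.inv_self hD hz]
    rw [e, oddPartners_conj hD, ← h, ← oddPartners_conj hD, hzb, mul_inv_cancel_right]
  have hag : a * g = g * a := hline.1.2.1.symm
  have haa := RootInvolutions.mul_self hD ha
  have hp' : z * a * z ∈ Cfsg.productPartners D a := by
    rw [four_conj hD ha hz]
    refine ⟨⟨hag ▸ hline.2, ?_, ?_⟩, ?_⟩
    · rw [hag, mul_assoc, ← mul_assoc, ← mul_assoc, hag]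
    · intro e
      exact RootInvolutions.ne_one hD hg (mul_left_cancel (e.trans (mul_one a).symm))
    · rw [hag, mul_assoc, haa, mul_one]
      exact hg
  have hA : Cfsg.oddPartners D g = Cfsg.oddPartners D a := by
    have h3 := oddPartners_third hD hc ha hp' hconj.symm
    rwa [four_conj hD ha hz, hag, mul_assoc, haa, mul_one] at h3
  by_cases hzg : Cfsg.oddPartners D z = Cfsg.oddPartners D g
  · exact not_comm_of_four hD ha hz h4 (comm_of_same hD hc ha hz (hzg.trans hA))
  obtain ⟨p, hp, hpn⟩ : ∃ p ∈ Cfsg.oddPartners D g, p ∉ Cfsg.oddPartners D z := by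
    by_contra hno
    push Not at hno
    exact hzg (eq_of_subset hD hc hg hz hno).symm
  have hzl : z ∈ Cfsg.productPartners D g := by
    have h4' : orderOf (z * a) = 4 := by rw [orderOf_comm hD ha hz]; exact h4
    have hm := RootInvolutions.sq_mem_productPartners hD hz ha h4'
      (by rw [four_symm hD ha hz h4]; exact hg)
    rw [four_symm hD ha hz h4] at hm
    exact RootInvolutions.productPartners_symm hD hz hm
  have hp4 := (four_of_not_odd hD hg hzl hp hpn).1
  obtain ⟨x, -, hx4, -, hxa⟩ := exists_order_three hD ha hz h4 hg'.symm hg hp hp4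
  exact not_odd_of_four hD hx4 (hA.symm ▸ hxa)

/-- The odd sets of a line with different classes differ. -/
theorem exists_odd_outside {a b : G} (ha : a ∈ D) (hb : b ∈ Cfsg.productPartners D a)
    (hne : Cfsg.commutingMembers D a ≠ Cfsg.commutingMembers D b) :
    ∃ p ∈ Cfsg.oddPartners D a, p ∉ Cfsg.oddPartners D b := by
  by_contra hno
  push Not at hno
  have h := eq_of_subset hD hc ha hb.1.1 hno
  have hsymm := RootInvolutions.productPartners_symm hD ha hb
  apply hne
  ext z
  exact ⟨fun ⟨hz, hza⟩ => ⟨hz, comm_iff_of_line hD hc hb.1.1 hsymm h hz hza⟩,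
    fun ⟨hz, hzb⟩ => ⟨hz, comm_iff_of_line hD hc ha hb h.symm hz hzb⟩⟩

end Cfsg.Agent.Lib.RootInv
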