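import Cfsg.Agent.Lib.Elem70.RootInvolutions

/-! Root involutions: parity, lines and conjugacy. -/

set_option autoImplicit false

namespace Cfsg.Agent.Lib.RootInv

open Cfsg.Agent.Lib.Elem70

variable {G : Type*} [Group G] {D : Set G}

variable (hD : Cfsg.IsRootInvolutionSet D)
include hD

theorem comm_iff_sq {a b : G} (ha : a ∈ D) (hb : b ∈ D) : a * b = b * a ↔ (a * b) ^ 2 = 1 := by
  have e : b * a = (a * b)⁻¹ := by
    rw [mul_inv_rev, RootInvolutions.inv_self hD ha, RootInvolutions.inv_self hD hb]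
  rw [e, eq_inv_iff_mul_eq_one, ← sq]

theorem cases_odd {a b : G} (ha : a ∈ D) (hb : b ∈ D) :
    a * b = b * a ∨ b ∈ Cfsg.oddPartners D a ∨ (orderOf (a * b) = 4 ∧ (a * b) ^ 2 ∈ D) := by
  rcases hD.pair a ha b hb with h | h | h
  · exact Or.inl h
  · by_cases e : b = a
    · exact Or.inl (by rw [e])
    · exact Or.inr (Or.inl ⟨hb, e, h⟩)
  · exact Or.inr (Or.inr h)

theorem one_lt_of_odd {a b : G} (ha : a ∈ D) (hb : b ∈ Cfsg.oddPartners D a) :
    3 ≤ orderOf (a * b) := by
  obtain ⟨hbD, hne, ⟨m, hm⟩⟩ := hb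
  rcases Nat.eq_zero_or_pos m with rfl | hpos
  · exfalso
    apply hne
    have h1 : a * b = 1 := orderOf_eq_one_iff.mp (by omega)
    rw [eq_inv_of_mul_eq_one_right h1, RootInvolutions.inv_self hD ha]
  · omega

theorem not_comm_of_odd {a b : G} (ha : a ∈ D) (hb : b ∈ Cfsg.oddPartners D a) :
    a * b ≠ b * a := fun h => by
  have h3 := one_lt_of_odd hD ha hb
  have := orderOf_dvd_of_pow_eq_one ((comm_iff_sq hD ha hb.1).mp h)
  have := Nat.le_of_dvd (by omega) this
  omega

theorem orderOf_comm {a b : G} (ha : a ∈ D) (hb : b ∈ D) : orderOf (b * a) = orderOf (a * b) := by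
  rw [← orderOf_inv, mul_inv_rev, RootInvolutions.inv_self hD ha, RootInvolutions.inv_self hD hb]

theorem oddPartners_symm {a b : G} (ha : a ∈ D) (hb : b ∈ Cfsg.oddPartners D a) :
    a ∈ Cfsg.oddPartners D b :=
  ⟨ha, hb.2.1.symm, by rw [orderOf_comm hD ha hb.1]; exact hb.2.2⟩

theorem not_self_odd {a : G} : a ∉ Cfsg.oddPartners D a := fun h => h.2.1 rfl

/-- Parity: a commuting involution destroys an odd product. -/
theorem parity {a e u : G} (ha : a ∈ D) (he : e ∈ Cfsg.oddPartners D a) (hau : a * u ∈ D)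
    (hua : u * a = a * u) (hue : u * e = e * u) (hu2 : u * u = 1) : u = 1 := by
  by_contra hu1
  have hc : Commute u (a * e) := (show Commute u a from hua).mul_right hue
  have hn := one_lt_of_odd hD ha he
  obtain ⟨m, hm⟩ := he.2.2
  have hou : orderOf u = 2 := orderOf_eq_prime (by rw [sq, hu2]) hu1
  have hord : orderOf (a * u * e) = 2 * orderOf (a * e) := by
    rw [show a * u * e = u * (a * e) by rw [← mul_assoc, hua],
      hc.orderOf_mul_eq_mul_orderOf_of_coprime (by rw [hou, Nat.coprime_two_left]; exact he.2.2), hou]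
  rcases hD.pair _ hau e he.1 with h | ⟨j, hj⟩ | ⟨h, -⟩
  · have := Nat.le_of_dvd (by omega) (orderOf_dvd_of_pow_eq_one ((comm_iff_sq hD hau he.1).mp h))
    omega
  · omega
  · omega

/-- No member with odd product to `a` commutes with a product partner of `a`. -/
theorem not_comm_line {a e z : G} (ha : a ∈ D) (hz : z ∈ Cfsg.productPartners D a)
    (he : e ∈ Cfsg.oddPartners D a) : z * e ≠ e * z := fun h => by
  obtain ⟨⟨hzD, hza, -⟩, hzaD⟩ := hz
  exact RootInvolutions.ne_one hD hzD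
    (parity hD ha he (hza ▸ hzaD) hza h (RootInvolutions.mul_self hD hzD))

/-- A member of the line not in the odd set of the other has a product of order four with it. -/
theorem four_of_not_odd {a e z : G} (ha : a ∈ D) (hz : z ∈ Cfsg.productPartners D a)
    (he : e ∈ Cfsg.oddPartners D a) (hn : e ∉ Cfsg.oddPartners D z) :
    orderOf (z * e) = 4 ∧ (z * e) ^ 2 ∈ D := by
  rcases cases_odd hD hz.1.1 he.1 with h | h | h
  · exact absurd h (not_comm_line hD ha hz he)
  · exact absurd h hn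
  · exact h

/-- The conjugate formula for a product of order four. -/
theorem four_conj {a f : G} (ha : a ∈ D) (hf : f ∈ D) : f * a * f = a * (a * f) ^ 2 := by
  rw [sq, show a * (a * f * (a * f)) = a * a * (f * a * f) by simp only [mul_assoc],
    RootInvolutions.mul_self hD ha, one_mul]

theorem four_symm {a f : G} (ha : a ∈ D) (hf : f ∈ D) (h : orderOf (a * f) = 4) :
    (f * a) ^ 2 = (a * f) ^ 2 :=
  RootInvolutions.sq_comm_of_pow_four (RootInvolutions.mul_self hD ha)
    (RootInvolutions.mul_self hD hf) (by rw [← h, pow_orderOf_eq_one])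

theorem conj_mem' {d : G} (hd : d ∈ D) {z : G} (hz : z ∈ D) : z * d * z ∈ D := by
  have := hD.conj_mem d hd z
  rwa [RootInvolutions.inv_self hD hz] at this

theorem not_comm_of_four {a f : G} (ha : a ∈ D) (hf : f ∈ D) (h : orderOf (a * f) = 4) :
    a * f ≠ f * a := fun e => by
  have := Nat.le_of_dvd (by omega) (orderOf_dvd_of_pow_eq_one ((comm_iff_sq hD ha hf).mp e))
  omega

theorem not_odd_of_four {a f : G} (h : orderOf (a * f) = 4) : f ∉ Cfsg.oddPartners D a :=
  fun e => by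
    obtain ⟨m, hm⟩ := e.2.2
    omega

/-- Odd partners of a conjugate. -/
theorem oddPartners_conj (g a : G) :
    Cfsg.oddPartners D (g * a * g⁻¹) = (fun e => g * e * g⁻¹) '' Cfsg.oddPartners D a := by
  have hord : ∀ e, orderOf (g * a * g⁻¹ * (g * e * g⁻¹)) = orderOf (a * e) := fun e => by
    rw [show g * a * g⁻¹ * (g * e * g⁻¹) = MulAut.conj g (a * e) by
      simp [MulAut.conj_apply, mul_assoc], MulEquiv.orderOf_eq]
  ext e
  constructor
  · rintro ⟨heD, hne, ho⟩
    refine ⟨g⁻¹ * e * g, ⟨by simpa using hD.conj_mem e heD g⁻¹, fun h => hne ?_, ?_⟩, by group⟩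
    · rw [← h]; group
    · rw [← hord]
      rwa [show g * (g⁻¹ * e * g) * g⁻¹ = e by group]
  · rintro ⟨y, ⟨hyD, hne, ho⟩, rfl⟩
    exact ⟨hD.conj_mem y hyD g, fun h => hne (mul_left_cancel (mul_right_cancel h)),
      by rw [hord]; exact ho⟩

theorem exists_conj_of_odd {a b : G} (ha : a ∈ D) (hb : b ∈ Cfsg.oddPartners D a) :
    ∃ g ∈ Subgroup.closure ({a, b} : Set G), b = g * a * g⁻¹ := by
  have hb' := oddPartners_symm hD ha hb
  obtain ⟨m, hm⟩ := hb'.2.2
  refine ⟨(b * a) ^ (m + 1), Subgroup.pow_mem _ (Subgroup.mul_mem _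
    (Subgroup.subset_closure (show b ∈ ({a, b} : Set G) from Or.inr rfl))
    (Subgroup.subset_closure (show a ∈ ({a, b} : Set G) from Or.inl rfl))) _, ?_⟩
  have hinv : a * ((b * a) ^ (m + 1))⁻¹ * a⁻¹ = (b * a) ^ (m + 1) := by
    rw [← inv_pow, ← conj_pow]
    congr 1
    rw [mul_inv_rev, RootInvolutions.inv_self hD hb.1, RootInvolutions.inv_self hD ha,
      ← mul_assoc a a b, RootInvolutions.mul_self hD ha, one_mul]
  have e : (b * a) ^ (m + 1) * a * ((b * a) ^ (m + 1))⁻¹ =
      (b * a) ^ (m + 1) * (a * ((b * a) ^ (m + 1))⁻¹ * a⁻¹) * a := by group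
  rw [e, hinv, ← pow_add, show m + 1 + (m + 1) = orderOf (b * a) + 1 by omega, pow_succ,
    pow_orderOf_eq_one, one_mul, mul_assoc, RootInvolutions.mul_self hD ha, mul_one]

theorem exists_conj_of_connected (hc : Cfsg.IsConnectedSet (Cfsg.OddAdj D) D) {a b : G}
    (ha : a ∈ D) (hb : b ∈ D) : ∃ g : G, b = g * a * g⁻¹ := by
  induction hc a ha b hb with
  | refl => exact ⟨1, by simp⟩
  | @tail y z _ hyz ih =>
    obtain ⟨g, rfl⟩ := ih hyz.1
    obtain ⟨h, -, rfl⟩ := exists_conj_of_odd hD hyz.1 ⟨hyz.2.1, hyz.2.2.1.symm, hyz.2.2.2⟩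
    exact ⟨h * g, by group⟩

theorem exists_oddPartner (hc : Cfsg.IsConnectedSet (Cfsg.OddAdj D) D) {a b : G}
    (ha : a ∈ D) (hb : b ∈ D) (hne : a ≠ b) : ∃ p, p ∈ Cfsg.oddPartners D a := by
  rcases (hc a ha b hb).cases_head with h | ⟨p, hp, -⟩
  · exact absurd h hne
  · exact ⟨p, hp.2.1, hp.2.2.1.symm, hp.2.2.2⟩

theorem eq_of_subset [Finite G] (hc : Cfsg.IsConnectedSet (Cfsg.OddAdj D) D) {a b : G}
    (ha : a ∈ D) (hb : b ∈ D) (h : Cfsg.oddPartners D a ⊆ Cfsg.oddPartners D b) :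
    Cfsg.oddPartners D a = Cfsg.oddPartners D b := by
  obtain ⟨g, rfl⟩ := exists_conj_of_connected hD hc ha hb
  refine Set.eq_of_subset_of_ncard_le h ?_ (Set.toFinite _)
  rw [oddPartners_conj hD]
  exact Set.ncard_image_le (Set.toFinite _)

/-- The third member of a line. -/
theorem oddPartners_third [Finite G] (hc : Cfsg.IsConnectedSet (Cfsg.OddAdj D) D) {a b : G}
    (ha : a ∈ D) (hb : b ∈ Cfsg.productPartners D a)
    (h : Cfsg.oddPartners D a = Cfsg.oddPartners D b) :
    Cfsg.oddPartners D (b * a) = Cfsg.oddPartners D a := by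
  have hcD : b * a ∈ D := hb.2
  have hbb := RootInvolutions.mul_self hD hb.1.1
  refine eq_of_subset hD hc hcD ha fun e he => ?_
  have hl : b ∈ Cfsg.productPartners D (b * a) := by
    refine ⟨⟨hb.1.1, ?_, fun e => ?_⟩, ?_⟩
    · rw [mul_assoc, ← show b * a = a * b from hb.1.2.1]
    · exact RootInvolutions.ne_one hD ha (mul_left_cancel (a := b) (e.symm.trans (mul_one b).symm))
    · rwa [← mul_assoc, hbb, one_mul]
  have hadj : Cfsg.OddAdj D e (b * a) :=
    ⟨he.1, hcD, he.2.1, by rw [orderOf_comm hD hcD he.1]; exact he.2.2⟩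
  rcases RootInvolutions.line_lemma hD hcD hl hadj with h1 | h1
  · rw [h]
    exact ⟨he.1, h1.2.2.1, by rw [orderOf_comm hD he.1 hb.1.1]; exact h1.2.2.2⟩
  · rw [← mul_assoc, hbb, one_mul] at h1
    exact ⟨he.1, h1.2.2.1, by rw [orderOf_comm hD he.1 ha]; exact h1.2.2.2⟩

end Cfsg.Agent.Lib.RootInv
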