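import Cfsg.Agent.Lib.RootInv.Basic

/-! Root involutions: existence of movers with prescribed centre. -/

set_option autoImplicit false

namespace Cfsg.Agent.Lib.RootInv

open Cfsg.Agent.Lib.Elem70

variable {G : Type*} [Group G] {D : Set G}

variable (hD : Cfsg.IsRootInvolutionSet D)
include hD

/-- The step of the iteration. -/
theorem step_lemma {a p z : G} (ha : a ∈ D) (hp : p ∈ Cfsg.oddPartners D a)
    (hz : z ∈ Cfsg.productPartners D a) (h4 : orderOf (z * p) = 4) :
    (z * p) ^ 2 ∈ Cfsg.productPartners D p ∧ orderOf ((z * p) ^ 2 * a) = 4 := by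
  have hzD := hz.1.1
  have hwD : (z * p) ^ 2 ∈ D := by
    rcases hD.pair z hzD p hp.1 with h | ⟨j, hj⟩ | ⟨-, h⟩
    · exact absurd h (not_comm_of_four hD hzD hp.1 h4)
    · omega
    · exact h
  have hwz := RootInvolutions.sq_mem_productPartners hD hzD hp.1 h4 hwD
  have hwp : (z * p) ^ 2 ∈ Cfsg.productPartners D p := by
    have h4' : orderOf (p * z) = 4 := by rw [orderOf_comm hD hzD hp.1]; exact h4
    have := RootInvolutions.sq_mem_productPartners hD hp.1 hzD h4'
      (by rw [four_symm hD hzD hp.1 h4]; exact hwD)
    rwa [four_symm hD hzD hp.1 h4] at this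
  have hcj := four_conj hD hzD hp.1
  set w := (z * p) ^ 2 with hw
  refine ⟨hwp, ?_⟩
  rcases cases_odd hD hwD ha with h | h | h
  · exfalso
    apply not_comm_of_four hD hzD hp.1 h4
    set V := Subgroup.closure ({z, w} : Set G) with hV
    have hzV : z ∈ V := Subgroup.subset_closure (Or.inl rfl)
    have hwV : w ∈ V := Subgroup.subset_closure (Or.inr rfl)
    have haC : a ∈ Subgroup.centralizer (V : Set G) := by
      rw [hV, Subgroup.centralizer_closure, Subgroup.mem_centralizer_iff]
      rintro y (rfl | rfl)
      · exact hz.1.2.1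
      · exact h
    have hpN : p ∈ Subgroup.normalizer (V : Set G) := by
      have hmap : ∀ y ∈ V, p * y * p⁻¹ ∈ V := fun y hy => by
        refine (show V ≤ V.comap (MulAut.conj p).toMonoidHom from ?_) hy
        rw [hV, Subgroup.closure_le]
        rintro y (rfl | rfl)
        · show p * y * p⁻¹ ∈ V
          rw [RootInvolutions.inv_self hD hp.1, hcj]
          exact mul_mem hzV hwV
        · show p * w * p⁻¹ ∈ V
          rw [← show w * p = p * w from hwp.1.2.1, mul_inv_cancel_right]
          exact hwV
      refine Subgroup.mem_normalizer_iff.mpr fun y => ⟨hmap y, fun hy => ?_⟩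
      have hpp := RootInvolutions.mul_self hD hp.1
      have := hmap _ hy
      rw [RootInvolutions.inv_self hD hp.1] at this
      rwa [show p * (p * y * p) * p = p * p * y * (p * p) by simp only [mul_assoc], hpp, one_mul,
        mul_one] at this
    have haN : a ∈ Subgroup.normalizer (V : Set G) := Subgroup.centralizer_le_normalizer _ haC
    obtain ⟨g, hg, hge⟩ := exists_conj_of_odd hD ha hp
    have hgN : g ∈ Subgroup.normalizer (V : Set G) := by
      refine (Subgroup.closure_le _).mpr ?_ hg
      rintro y (rfl | rfl)
      · exact haN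
      · exact hpN
    have hpC : p ∈ Subgroup.centralizer (V : Set G) := by
      rw [hge, Subgroup.mem_centralizer_iff]
      intro y hy
      have hy' : g⁻¹ * y * g ∈ V := by
        have := (Subgroup.mem_normalizer_iff.mp (inv_mem hgN) y).mp hy
        rwa [inv_inv] at this
      have := Subgroup.mem_centralizer_iff.mp haC _ hy'
      calc y * (g * a * g⁻¹) = g * (g⁻¹ * y * g * a) * g⁻¹ := by group
        _ = g * (a * (g⁻¹ * y * g)) * g⁻¹ := by rw [this]
        _ = g * a * g⁻¹ * y := by group
    exact Subgroup.mem_centralizer_iff.mp hpC z hzV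
  · exfalso
    exact not_comm_line hD ha hz (oddPartners_symm hD hwD h |> fun e => ⟨hwD, e.2.1, e.2.2⟩) hwz.1.2.1.symm
  · exact h.1

/-- The alternating reflection. -/
def turn (a p : G) (n : ℕ) : G := if Even n then a else p

omit hD in
theorem turn_add_two (a p : G) (n : ℕ) : turn a p (n + 2) = turn a p n := by
  simp [turn, Nat.even_add]

/-- The orbit of a line under alternately taking squares of products. -/
def orbitSeq (a p z : G) : ℕ → G
  | 0 => z
  | n + 1 => (orbitSeq a p z n * turn a p (n + 1)) ^ 2

theorem orbitSeq_spec {a p z : G} (ha : a ∈ D) (hp : p ∈ Cfsg.oddPartners D a)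
    (hz : z ∈ Cfsg.productPartners D a) (h4 : orderOf (z * p) = 4) (n : ℕ) :
    orbitSeq a p z n ∈ Cfsg.productPartners D (turn a p n) ∧
      orderOf (orbitSeq a p z n * turn a p (n + 1)) = 4 := by
  induction n with
  | zero => exact ⟨by simpa [turn, orbitSeq] using hz, by simpa [turn, orbitSeq] using h4⟩
  | succ n ih =>
    have ht : turn a p n ∈ D ∧ turn a p (n + 1) ∈ Cfsg.oddPartners D (turn a p n) := by
      rcases Nat.even_or_odd n with he | ho
      · simp only [turn, he, Nat.even_add_one, not_true, if_true, if_false]
        exact ⟨ha, hp⟩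
      · simp only [turn, Nat.not_even_iff_odd.mpr ho, Nat.even_add_one, not_false_iff, if_true,
          if_false]
        exact ⟨hp.1, oddPartners_symm hD ha hp⟩
    have := step_lemma hD ht.1 ht.2 ih.1 ih.2
    refine ⟨this.1, ?_⟩
    rw [turn_add_two]
    exact this.2

theorem orbitSeq_mem {a p z : G} (ha : a ∈ D) (hp : p ∈ Cfsg.oddPartners D a)
    (hz : z ∈ Cfsg.productPartners D a) (h4 : orderOf (z * p) = 4) (n : ℕ) :
    orbitSeq a p z n ∈ D := (orbitSeq_spec hD ha hp hz h4 n).1.1.1

theorem orbitSeq_comm {a p z : G} (ha : a ∈ D) (hp : p ∈ Cfsg.oddPartners D a)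
    (hz : z ∈ Cfsg.productPartners D a) (h4 : orderOf (z * p) = 4) (n : ℕ) :
    ∀ j ≤ n, Commute (orbitSeq a p z j) (orbitSeq a p z n) := by
  set s := orbitSeq a p z with hs
  have hmem := orbitSeq_mem hD ha hp hz h4
  have hspec := orbitSeq_spec hD ha hp hz h4
  induction n with
  | zero => intro j hj; rw [Nat.le_zero.mp hj]
  | succ n ih =>
    intro j hj
    rcases Nat.lt_or_eq_of_le hj with hlt | rfl
    swap
    · exact Commute.refl _
    have htD : turn a p (n + 1) ∈ D := by unfold turn; split <;> [exact ha; exact hp.1]
    set t := turn a p (n + 1) with ht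
    have htt := RootInvolutions.mul_self hD htD
    have hnext : s (n + 1) = s n * (t * s n * t) := by
      show (s n * t) ^ 2 = _
      rw [sq]; simp only [mul_assoc]
    rw [hnext]
    refine (ih j (by omega)).mul_right ?_
    -- move the conjugation to the other side
    suffices h : Commute (t * s j * t) (s n) by
      show s j * (t * s n * t) = t * s n * t * s j
      have h' : t * s j * t * s n = s n * (t * s j * t) := h
      calc s j * (t * s n * t) = t * (t * s j * t * s n) * t := by
            simp only [← mul_assoc, htt, one_mul]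
        _ = t * (s n * (t * s j * t)) * t := by rw [h']
        _ = t * s n * t * s j * (t * t) := by simp only [mul_assoc]
        _ = _ := by rw [htt, mul_one]
    by_cases hpar : Even j ↔ Even (n + 1)
    · have htj : turn a p j = t := by simp only [ht, turn, hpar]
      have hc : s j * t = t * s j := htj ▸ (hspec j).1.1.2.1
      rw [← hc, mul_assoc, htt, mul_one]
      exact ih j (by omega)
    · have htj : turn a p (j + 1) = t := by
        simp only [ht, turn, Nat.even_add_one]
        simp only [Nat.even_add_one] at hpar
        by_cases hj : Even j <;> by_cases hn : Even n <;> simp_all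
      have : t * s j * t = s j * s (j + 1) := by
        have hj4 : orderOf (s j * t) = 4 := htj ▸ (hspec j).2
        show _ = s j * (s j * turn a p (j + 1)) ^ 2
        rw [htj]
        exact four_conj hD (hmem j) htD
      rw [this]
      refine (ih j (by omega)).mul_left ?_
      rcases Nat.lt_or_eq_of_le (show j ≤ n by omega) with h | rfl
      · exact ih (j + 1) h
      · have hj4 : orderOf (s j * t) = 4 := (hspec j).2
        exact (RootInvolutions.sq_mem_productPartners hD (hmem j) htD hj4 (hmem (j + 1))).1.2.1

end Cfsg.Agent.Lib.RootInv
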