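import Cfsg.Agent.Lib.RootInv.Lines

/-! Root involutions: movers and products of order three. -/

set_option autoImplicit false

namespace Cfsg.Agent.Lib.RootInv

open Cfsg.Agent.Lib.Elem70

variable {G : Type*} [Group G] {D : Set G}

theorem turn_of_parity (a p : G) {i j : ℕ} (h : Even i ↔ Even j) : turn a p i = turn a p j := by
  simp only [turn, h]

variable (hD : Cfsg.IsRootInvolutionSet D)
include hD

/-- Two steps with the same value come from the same element, if one of them is itself a step. -/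
theorem cancel_step {a p y y' f : G} (ha : a ∈ D) (hp : p ∈ Cfsg.oddPartners D a)
    (hy : y ∈ Cfsg.productPartners D a) (hy' : y' ∈ Cfsg.productPartners D a)
    (h4 : orderOf (y * p) = 4) (h4' : orderOf (y' * p) = 4)
    (he : (y * p) ^ 2 = (y' * p) ^ 2) (hyy : Commute y y') (hwy' : Commute ((y * p) ^ 2) y')
    (hf : f ∈ D) (hf4 : orderOf (f * a) = 4) (hfy : (f * a) ^ 2 = y') (hfc : Commute f y) :
    y = y' := by
  have hyD := hy.1.1
  have hyD' := hy'.1.1
  have hpp := RootInvolutions.mul_self hD hp.1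
  have hyy2 := RootInvolutions.mul_self hD hyD
  have hyy2' := RootInvolutions.mul_self hD hyD'
  have hay : a * y = y * a := hy.1.2.1.symm
  have hay' : a * y' = y' * a := hy'.1.2.1.symm
  have haD : a * y ∈ D := by rw [hay]; exact hy.2
  set u := y * y' with hu
  have hu2 : u * u = 1 := by
    rw [hu, mul_assoc, ← mul_assoc y', ← hyy.eq, mul_assoc y, hyy2', mul_one, hyy2]
  have hup : u * p = p * u := by
    have hpu : p * u * p = u := by
      have e1 := four_conj hD hyD hp.1
      have e2 := four_conj hD hyD' hp.1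
      calc p * u * p = (p * y * p) * (p * y' * p) := by
            rw [hu]
            simp only [← mul_assoc]
            rw [mul_assoc (p * y) p p, hpp, mul_one]
        _ = y * (y * p) ^ 2 * (y' * (y' * p) ^ 2) := by rw [e1, e2]
        _ = y * y' * ((y * p) ^ 2 * (y * p) ^ 2) := by
            rw [← he]
            calc y * (y * p) ^ 2 * (y' * (y * p) ^ 2) = y * ((y * p) ^ 2 * y') * (y * p) ^ 2 := by
                  simp only [mul_assoc]
              _ = y * (y' * (y * p) ^ 2) * (y * p) ^ 2 := by rw [hwy'.eq]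
              _ = _ := by simp only [mul_assoc]
        _ = u := by
            rw [← sq, ← pow_mul, show 2 * 2 = orderOf (y * p) by omega, pow_orderOf_eq_one, mul_one]
    calc u * p = p * u * p * p := by rw [hpu]
      _ = p * u := by rw [mul_assoc (p * u), hpp, mul_one]
  have hua : u * a = a * u := ((show Commute y a from hay.symm).mul_left hay'.symm).eq
  have hau : a * u ∈ D := by
    have hff := RootInvolutions.mul_self hD hf
    have e3 : f * a * f = a * y' := by
      rw [four_conj hD ha hf, four_symm hD hf ha hf4, hfy]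
    have e4 : f * (a * y) * f = a * u := by
      calc f * (a * y) * f = f * a * (y * f) := by simp only [mul_assoc]
        _ = f * a * (f * y) := by rw [hfc.eq]
        _ = a * y' * y := by rw [← mul_assoc, e3]
        _ = a * u := by rw [hu, mul_assoc, hyy.eq]
    rw [← e4]
    exact conj_mem' hD haD hf
  have hu1 := parity hD ha hp hau hua hup hu2
  rw [hu] at hu1
  calc y = y * y' * y' := by rw [mul_assoc, hyy2', mul_one]
    _ = y' := by rw [hu1, one_mul]

/-- A mover of `a` with prescribed centre. -/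
theorem exists_mover [Finite G] {a p z : G} (ha : a ∈ D) (hp : p ∈ Cfsg.oddPartners D a)
    (hz : z ∈ Cfsg.productPartners D a) (h4 : orderOf (z * p) = 4) :
    ∃ f ∈ D, orderOf (a * f) = 4 ∧ (a * f) ^ 2 = z := by
  set s := orbitSeq a p z with hs
  have hspec := orbitSeq_spec hD ha hp hz h4
  have hmem := orbitSeq_mem hD ha hp hz h4
  have hcomm : ∀ i j, Commute (s i) (s j) := fun i j => by
    rcases le_total i j with h | h
    · exact orbitSeq_comm hD ha hp hz h4 j i h
    · exact (orbitSeq_comm hD ha hp hz h4 i j h).symm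
  have hturn : ∀ n, turn a p n ∈ D ∧ turn a p (n + 1) ∈ Cfsg.oddPartners D (turn a p n) := by
    intro n
    rcases Nat.even_or_odd n with he | ho
    · simp only [turn, he, Nat.even_add_one, not_true, if_true, if_false]
      exact ⟨ha, hp⟩
    · simp only [turn, Nat.not_even_iff_odd.mpr ho, Nat.even_add_one, not_false_iff, if_true,
        if_false]
      exact ⟨hp.1, oddPartners_symm hD ha hp⟩
  -- going back along the orbit
  have hback : ∀ i m, s (i + 1) = s (i + 2 * (m + 1) + 1) → s i = s (i + 2 * (m + 1)) := by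
    intro i m he
    have et : turn a p (i + 2 * (m + 1)) = turn a p i :=
      turn_of_parity a p (by simp [Nat.even_add, parity_simps])
    have et1 : turn a p (i + 2 * (m + 1) + 1) = turn a p (i + 1) :=
      turn_of_parity a p (by simp [Nat.even_add, parity_simps])
    refine cancel_step hD (f := s (i + 2 * m + 1)) (hturn i).1 (hturn i).2 (hspec i).1
      (et ▸ (hspec (i + 2 * (m + 1))).1) (hspec i).2 (et1 ▸ (hspec _).2) ?_ (hcomm _ _) ?_
      (hmem _) ?_ ?_ (hcomm _ _)
    · show s (i + 1) = (s (i + 2 * (m + 1)) * turn a p (i + 1)) ^ 2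
      rw [he, ← et1]; rfl
    · exact hcomm (i + 1) _
    · have h := (hspec (i + 2 * m + 1)).2
      rwa [show i + 2 * m + 1 + 1 = i + 2 * (m + 1) by omega, et] at h
    · rw [show i + 2 * (m + 1) = i + 2 * m + 1 + 1 by omega] at et ⊢
      show _ = (s (i + 2 * m + 1) * turn a p (i + 2 * m + 1 + 1)) ^ 2
      rw [et]
  obtain ⟨i, j, hij, he⟩ := Finite.exists_ne_map_eq_of_infinite fun n : ℕ => s (2 * n)
  have key : ∀ i m, s i = s (i + 2 * (m + 1)) → s 0 = s (2 * (m + 1)) := by
    intro i m
    induction i with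
    | zero => intro h; rwa [zero_add] at h
    | succ i ih =>
      intro h
      exact ih (hback i m (by rw [h]; congr 1; omega))
  obtain ⟨m, hm⟩ : ∃ m, s 0 = s (2 * (m + 1)) := by
    rcases Nat.lt_or_gt_of_ne hij with h | h
    · exact ⟨j - i - 1, key (2 * i) _ (he.trans (by congr 1; omega))⟩
    · exact ⟨i - j - 1, key (2 * j) _ (he.symm.trans (by congr 1; omega))⟩
  have het : turn a p (2 * m + 1 + 1) = a := by simp [turn, parity_simps]
  have hf := (hspec (2 * m + 1)).2
  rw [het] at hf
  refine ⟨s (2 * m + 1), hmem _, by rw [orderOf_comm hD (hmem _) ha]; exact hf, ?_⟩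
  rw [← four_symm hD ha (hmem _) (by rw [orderOf_comm hD (hmem _) ha]; exact hf)]
  show _ = s 0
  rw [hm, show 2 * (m + 1) = 2 * m + 1 + 1 by omega]
  show _ = (s (2 * m + 1) * turn a p (2 * m + 1 + 1)) ^ 2
  rw [het]

/-- From a mover, an element with product of order three. -/
theorem exists_order_three [Finite G] {a b f p : G} (ha : a ∈ D) (hf : f ∈ D)
    (h4 : orderOf (a * f) = 4) (hb : (a * f) ^ 2 = b) (hbD : b ∈ D)
    (hp : p ∈ Cfsg.oddPartners D b) (hp4 : orderOf (f * p) = 4) :
    ∃ x ∈ D, orderOf (b * x) = 4 ∧ orderOf (a * x) = 3 ∧ x ∈ Cfsg.oddPartners D a := by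
  have hbf : f ∈ Cfsg.productPartners D b := by
    have h4' : orderOf (f * a) = 4 := by rw [orderOf_comm hD ha hf]; exact h4
    have hb' : (f * a) ^ 2 = b := by rw [four_symm hD ha hf h4, hb]
    have hmem := RootInvolutions.sq_mem_productPartners hD hf ha h4' (by rw [hb']; exact hbD)
    rw [hb'] at hmem
    exact RootInvolutions.productPartners_symm hD hf hmem
  have hba : b ∈ Cfsg.productPartners D a := by
    have hmem := RootInvolutions.sq_mem_productPartners hD ha hf h4 (by rw [hb]; exact hbD)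
    rwa [hb] at hmem
  obtain ⟨x, hx, hx4, hxb⟩ := exists_mover hD hbD hp hbf hp4
  refine ⟨x, hx, hx4, ?_⟩
  have haa := RootInvolutions.mul_self hD ha
  have hxx := RootInvolutions.mul_self hD hx
  have hb2 := RootInvolutions.mul_self hD hbD
  have hbfc : f * b = b * f := hbf.1.2.1
  have e_ab : a * b * a = b := by rw [← hba.1.2.1, mul_assoc, haa, mul_one]
  have e_xb : x * b * x = b * f := by rw [four_conj hD hbD hx, hxb]
  have e_af : a * f * a = f * b := by
    rw [four_conj hD hf ha, four_symm hD ha hf h4, hb]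
  have hxf : x * f = f * x := by
    have := RootInvolutions.sq_mem_productPartners hD hx hbD
      (by rw [orderOf_comm hD hbD hx]; exact hx4)
      (by rw [four_symm hD hbD hx hx4, hxb]; exact hf)
    rw [four_symm hD hbD hx hx4, hxb] at this
    exact this.1.2.1.symm
  have e_xf : x * f * x = f := by rw [hxf, mul_assoc, hxx, mul_one]
  set r := a * x with hr
  have hrinv : r⁻¹ = x * a := by
    rw [hr, mul_inv_rev, RootInvolutions.inv_self hD ha, RootInvolutions.inv_self hD hx]
  have conjr : ∀ y, r * y * r⁻¹ = a * (x * y * x) * a := fun y => by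
    rw [hrinv, hr]; simp only [mul_assoc]
  have amul : ∀ y y', a * (y * y') * a = (a * y * a) * (a * y' * a) := fun y y' => by
    simp only [mul_assoc]
    rw [← mul_assoc a a, haa, one_mul]
  have xmul : ∀ y y', x * (y * y') * x = (x * y * x) * (x * y' * x) := fun y y' => by
    simp only [mul_assoc]
    rw [← mul_assoc x x, hxx, one_mul]
  have r1 : r * b * r⁻¹ = f := by
    rw [conjr, e_xb, amul, e_ab, e_af, hbfc, ← mul_assoc, hb2, one_mul]
  have r2 : r * f * r⁻¹ = f * b := by rw [conjr, e_xf, e_af]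
  have r3 : r * (f * b) * r⁻¹ = b := by
    rw [show r * (f * b) * r⁻¹ = (r * f * r⁻¹) * (r * b * r⁻¹) by group, r2, r1, hbfc, mul_assoc,
      RootInvolutions.mul_self hD hf, mul_one]
  have hfne : f ≠ b := hbf.1.2.2
  have hfb : f * b ≠ b := fun e =>
    RootInvolutions.ne_one hD hf (mul_right_cancel (e.trans (one_mul b).symm))
  have hcube : r ^ 3 * b * (r ^ 3)⁻¹ = b := by
    rw [show r ^ 3 * b * (r ^ 3)⁻¹ = r * (r * (r * b * r⁻¹) * r⁻¹) * r⁻¹ by
      simp only [pow_succ, pow_zero, one_mul, mul_inv_rev, mul_assoc], r1, r2, r3]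
  have hcube' : ∀ k, r ^ (3 * k) * b * (r ^ (3 * k))⁻¹ = b := by
    intro k
    induction k with
    | zero => simp
    | succ k ih =>
      rw [show 3 * (k + 1) = 3 + 3 * k by ring, pow_add,
        show r ^ 3 * r ^ (3 * k) * b * (r ^ 3 * r ^ (3 * k))⁻¹ =
          r ^ 3 * (r ^ (3 * k) * b * (r ^ (3 * k))⁻¹) * (r ^ 3)⁻¹ by group, ih, hcube]
  have hdiv : ∀ n, r ^ n = 1 → 3 ∣ n := by
    intro n hn
    have h0 : r ^ n * b * (r ^ n)⁻¹ = b := by rw [hn]; simp
    rw [← Nat.mod_add_div n 3, pow_add,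
      show r ^ (n % 3) * r ^ (3 * (n / 3)) * b * (r ^ (n % 3) * r ^ (3 * (n / 3)))⁻¹ =
        r ^ (n % 3) * (r ^ (3 * (n / 3)) * b * (r ^ (3 * (n / 3)))⁻¹) * (r ^ (n % 3))⁻¹ by group,
      hcube'] at h0
    rcases (show n % 3 = 0 ∨ n % 3 = 1 ∨ n % 3 = 2 by omega) with h | h | h
    · omega
    · rw [h, pow_one, r1] at h0
      exact absurd h0 hfne
    · rw [h, show r ^ 2 * b * (r ^ 2)⁻¹ = r * (r * b * r⁻¹) * r⁻¹ by
        simp only [pow_succ, pow_zero, one_mul, mul_inv_rev, mul_assoc], r1, r2] at h0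
      exact absurd h0 hfb
  have hd3 : 3 ∣ orderOf r := hdiv _ (pow_orderOf_eq_one r)
  obtain ⟨m, hm⟩ : Odd (orderOf r) := by
    rcases hD.pair a ha x hx with h | h | ⟨h, -⟩
    · exact absurd (hdiv 2 ((comm_iff_sq hD ha hx).mp h)) (by decide)
    · exact h
    · rw [hr, h] at hd3
      exact absurd hd3 (by decide)
  have hne : x ≠ a := by
    rintro rfl
    exact hfne (by rw [← r1, hr, haa, one_mul, inv_one, mul_one])
  have hxA : x ∈ Cfsg.oddPartners D a := ⟨hx, hne, ⟨m, hm⟩⟩
  refine ⟨?_, hxA⟩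
  by_contra hne3
  set a' := r ^ 3 * a * (r ^ 3)⁻¹ with ha'
  have hflip : a * r * a⁻¹ = r⁻¹ := by
    rw [hrinv, hr, ← mul_assoc, haa, one_mul, RootInvolutions.inv_self hD ha]
  have hflip3 : a * r ^ 3 * a⁻¹ = (r ^ 3)⁻¹ := by rw [← conj_pow, hflip, inv_pow]
  have haa' : a * a' = (r ^ 6)⁻¹ := by
    calc a * a' = (a * r ^ 3 * a⁻¹) * (a * a) * (r ^ 3)⁻¹ := by rw [ha']; group
      _ = (r ^ 3)⁻¹ * (r ^ 3)⁻¹ := by rw [hflip3, haa, mul_one]
      _ = (r ^ 6)⁻¹ := by rw [← mul_inv_rev, ← pow_add]
  have hodd : Odd (orderOf (a * a')) := by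
    rw [haa', orderOf_inv]
    exact Odd.of_dvd_nat ⟨m, hm⟩ (orderOf_pow_dvd 6)
  have hne' : a' ≠ a := by
    intro e
    rw [e, haa] at haa'
    have h6 := orderOf_dvd_of_pow_eq_one (inv_eq_one.mp haa'.symm)
    have h6' := Nat.le_of_dvd (by norm_num) h6
    obtain ⟨j, hj⟩ := hd3
    change orderOf r ≠ 3 at hne3
    omega
  have hc1 : Commute (r ^ 3) b := mul_inv_eq_iff_eq_mul.mp hcube
  have hca : Commute a b := hba.1.2.1.symm
  exact not_comm_line hD ha hba ⟨hD.conj_mem a ha _, hne', hodd⟩
    ((hc1.mul_left hca).mul_left hc1.inv_left).eq.symm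

end Cfsg.Agent.Lib.RootInv
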